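import Mathlib
import Groth.Agent.AdicRingLib.Completion

/-! Isomorphisms of completions from bijections modulo powers. -/

set_option autoImplicit false

universe u v

namespace CplLib

variable {R : Type u} [CommRing R] (I : Ideal R) {S : Type v} [CommRing S] (J : Ideal S)

/-- Compatible bijections modulo powers give an isomorphism of completions. -/
theorem nonempty_equiv (f : R →+* S) (h : ∀ n, I ^ n ≤ (J ^ n).comap f)
    (hbij : ∀ n, Function.Bijective (Ideal.quotientMap (J ^ n) f (h n))) :
    Nonempty (AdicCompletion I R ≃+* AdicCompletion J S) := by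
  let q := fun n => RingEquiv.ofBijective (Ideal.quotientMap (J ^ n) f (h n)) (hbij n)
  let F : AdicCompletion I R →+* AdicCompletion J S :=
    AdicCompletion.liftRingHom J (fun n => (q n).toRingHom.comp (AdicCompletion.evalₐ I n).toRingHom)
      (fun {m n} hle => RingHom.ext fun x => by
        induction x using AdicCompletion.induction_on with
        | _ g =>
          simp only [RingHom.comp_apply, AlgHom.toRingHom_eq_coe, RingHom.coe_coe, AdicCompletion.evalₐ_mk,
            RingEquiv.toRingHom_eq_coe, q, RingEquiv.ofBijective_apply, Ideal.quotientMap_mk,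
            Ideal.Quotient.factor_mk]
          rw [Ideal.Quotient.mk_eq_mk_iff_sub_mem, ← map_sub]
          refine h m ?_
          have h1 := SModEq.sub_mem.mp (g.2 hle)
          rw [smul_eq_mul, Ideal.mul_top] at h1
          rw [← neg_sub]; exact neg_mem h1)
  have hF : ∀ n x, AdicCompletion.evalₐ J n (F x) = q n (AdicCompletion.evalₐ I n x) := fun n x => by
    exact AdicCompletion.evalₐ_liftRingHom J _ _ n x
  let G : AdicCompletion J S →+* AdicCompletion I R :=
    AdicCompletion.liftRingHom I (fun n => (q n).symm.toRingHom.comp (AdicCompletion.evalₐ J n).toRingHom)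
      (fun {m n} hle => RingHom.ext fun y => (q m).injective (by
        induction y using AdicCompletion.induction_on with
        | _ g =>
          simp only [RingHom.comp_apply, AlgHom.toRingHom_eq_coe, RingHom.coe_coe, AdicCompletion.evalₐ_mk,
            RingEquiv.toRingHom_eq_coe, RingEquiv.apply_symm_apply]
          obtain ⟨r, hr⟩ := Ideal.Quotient.mk_surjective ((q n).symm (Ideal.Quotient.mk _ (g n)))
          rw [← hr, Ideal.Quotient.factor_mk]
          have h1 := congrArg (Ideal.Quotient.factor (Ideal.pow_le_pow_right hle)) (congrArg (q n) hr)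
          simp only [q, RingEquiv.ofBijective_apply, RingEquiv.apply_symm_apply, Ideal.quotientMap_mk,
            Ideal.Quotient.factor_mk] at h1 ⊢
          rw [h1, Ideal.Quotient.mk_eq_mk_iff_sub_mem]
          have h2 := SModEq.sub_mem.mp (g.2 hle)
          rw [smul_eq_mul, Ideal.mul_top] at h2
          rw [← neg_sub]; exact neg_mem h2))
  have hG : ∀ n y, AdicCompletion.evalₐ I n (G y) = (q n).symm (AdicCompletion.evalₐ J n y) := fun n y => by
    exact AdicCompletion.evalₐ_liftRingHom I _ _ n y
  exact ⟨RingEquiv.ofRingHom F G
    (RingHom.ext fun y => AdicCompletion.ext_evalₐ fun n => by simp [hF, hG])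
    (RingHom.ext fun x => AdicCompletion.ext_evalₐ fun n => by simp [hF, hG])⟩

end CplLib
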