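import Mathlib
import Groth.Prelude.Def_EGA4b
import Groth.Agent.CplLib.Compare
import Groth.Agent.AdicRingLib.Completion

/-! Base change of a local ring along a completion. -/

set_option autoImplicit false

universe u

open TensorProduct

namespace CplLib

variable {A B : Type u} [CommRing A] [CommRing B] [Algebra A B] {K : Ideal A} (hK : K.FG)
  {m : Ideal B} (hm : K.map (algebraMap A B) ≤ m)

include hK hm in
/-- `B` is dense in `B ⊗ Â`. -/
theorem exists_sub_mem (k : ℕ) (x : B ⊗[A] AdicCompletion K A) :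
    ∃ b : B, x - algebraMap B (B ⊗[A] AdicCompletion K A) b ∈
      (m ^ k).map (algebraMap B (B ⊗[A] AdicCompletion K A)) := by
  induction x using TensorProduct.induction_on with
  | zero => exact ⟨0, by simp⟩
  | add x y hx hy =>
    obtain ⟨b, hb⟩ := hx
    obtain ⟨c, hc⟩ := hy
    exact ⟨b + c, by rw [map_add, add_sub_add_comm]; exact add_mem hb hc⟩
  | tmul b a =>
    obtain ⟨c, hc⟩ := AdicRingLib.exists_sub_mem_map_pow hK k a
    have hle : (K ^ k).map (algebraMap A (AdicCompletion K A)) ≤
        ((m ^ k).map (algebraMap B (B ⊗[A] AdicCompletion K A))).comap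
          (Algebra.TensorProduct.includeRight : AdicCompletion K A →ₐ[A] B ⊗[A] AdicCompletion K A) := by
      rw [Ideal.map_le_iff_le_comap]
      intro t ht
      have h1 : algebraMap A B t ∈ m ^ k := by
        refine (Ideal.pow_right_mono hm k) ?_
        rw [← Ideal.map_pow]; exact Ideal.mem_map_of_mem _ ht
      have h2 := Ideal.mem_map_of_mem (algebraMap B (B ⊗[A] AdicCompletion K A)) h1
      simp only [Ideal.mem_comap, AlgHom.commutes]
      rwa [IsScalarTower.algebraMap_apply A B (B ⊗[A] AdicCompletion K A)]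
    refine ⟨c • b, ?_⟩
    have he : b ⊗ₜ[A] a - algebraMap B (B ⊗[A] AdicCompletion K A) (c • b) =
        b ⊗ₜ[A] (1 : AdicCompletion K A) *
          Algebra.TensorProduct.includeRight (a - algebraMap A (AdicCompletion K A) c) := by
      have h3 : algebraMap B (B ⊗[A] AdicCompletion K A) (c • b) =
          b ⊗ₜ[A] algebraMap A (AdicCompletion K A) c := by
        rw [Algebra.algebraMap_eq_smul_one (A := AdicCompletion K A)]
        exact smul_tmul c b 1
      rw [map_sub, mul_sub, Algebra.TensorProduct.includeRight_apply,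
        Algebra.TensorProduct.includeRight_apply, Algebra.TensorProduct.tmul_mul_tmul,
        Algebra.TensorProduct.tmul_mul_tmul, mul_one, one_mul, one_mul, h3]
    rw [he]
    exact Ideal.mul_mem_left _ _ (hle hc)

include hm in
/-- `B → B ⊗ Â` is injective modulo powers of `m`. -/
theorem mem_of_algebraMap_mem (k : ℕ) (b : B)
    (hb : algebraMap B (B ⊗[A] AdicCompletion K A) b ∈
      (m ^ k).map (algebraMap B (B ⊗[A] AdicCompletion K A))) : b ∈ m ^ k := by
  have hle : K ^ k ≤ (m ^ k).comap (Algebra.ofId A B) := fun t ht => by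
    refine (Ideal.pow_right_mono hm k) ?_
    rw [← Ideal.map_pow]; exact Ideal.mem_map_of_mem _ ht
  let g : AdicCompletion K A →ₐ[A] B ⧸ m ^ k :=
    (Ideal.quotientMapₐ (m ^ k) (Algebra.ofId A B) hle).comp (AdicCompletion.evalₐ K k)
  let ρ : B ⊗[A] AdicCompletion K A →ₐ[B] B ⧸ m ^ k :=
    Algebra.TensorProduct.lift (Ideal.Quotient.mkₐ B (m ^ k)) g (fun _ _ => Commute.all _ _)
  have hle2 : (m ^ k).map (algebraMap B (B ⊗[A] AdicCompletion K A)) ≤ RingHom.ker ρ := by
    rw [Ideal.map_le_iff_le_comap]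
    intro t ht
    simp only [Ideal.mem_comap, RingHom.mem_ker, AlgHom.commutes]
    exact Ideal.Quotient.eq_zero_iff_mem.mpr ht
  have := hle2 hb
  rw [RingHom.mem_ker, AlgHom.commutes] at this
  exact Ideal.Quotient.eq_zero_iff_mem.mp this

variable [IsLocalRing B]

include hK in
/-- The completion of `B` and of the localization of `B ⊗ Â` at the prime over `m_B` agree. -/
theorem nonempty_cpl_equiv (hm : K.map (algebraMap A B) ≤ IsLocalRing.maximalIdeal B)
    (n' : Ideal (B ⊗[A] AdicCompletion K A)) [n'.IsPrime]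
    (h1 : n'.comap (algebraMap B (B ⊗[A] AdicCompletion K A)) = IsLocalRing.maximalIdeal B) :
    Nonempty (EGA4.Cpl B ≃+* EGA4.Cpl (Localization.AtPrime n')) := by
  have hn : n' = (IsLocalRing.maximalIdeal B).map (algebraMap B (B ⊗[A] AdicCompletion K A)) := by
    refine le_antisymm (fun x hx => ?_) (Ideal.map_le_iff_le_comap.2 h1.ge)
    obtain ⟨b, hb⟩ := exists_sub_mem hK hm 1 x
    rw [pow_one] at hb
    have hbn : algebraMap B _ b ∈ n' := by
      have hsub := Ideal.map_le_iff_le_comap.2 h1.ge hb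
      simpa using sub_mem hx hsub
    have hbm : b ∈ IsLocalRing.maximalIdeal B := by rw [← h1]; exact hbn
    simpa using add_mem hb (Ideal.mem_map_of_mem _ hbm)
  have : n'.IsMaximal := by
    rw [Ideal.isMaximal_iff]
    refine ⟨(Ideal.ne_top_iff_one n').1 (Ideal.IsPrime.ne_top inferInstance), fun J x hJ hx hxJ => ?_⟩
    obtain ⟨b, hb⟩ := exists_sub_mem hK hm 1 x
    rw [pow_one, ← hn] at hb
    have hbJ : algebraMap B _ b ∈ J := by simpa using sub_mem hxJ (hJ hb)
    have hbu : IsUnit b := by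
      by_contra hnu
      have hbn : algebraMap B _ b ∈ n' := by
        rw [hn]; exact Ideal.mem_map_of_mem _ ((IsLocalRing.mem_maximalIdeal _).2 hnu)
      exact hx (by simpa using add_mem hb hbn)
    exact (Ideal.eq_top_iff_one J).1 (Ideal.eq_top_of_isUnit_mem _ hbJ (hbu.map _))
  let f : B →+* Localization.AtPrime n' :=
    (algebraMap (B ⊗[A] AdicCompletion K A) (Localization.AtPrime n')).comp (algebraMap B _)
  let e := fun k => IsLocalization.AtPrime.equivQuotMaximalIdealPow n' (Localization.AtPrime n') k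
  have hpow : ∀ k, n' ^ k = (IsLocalRing.maximalIdeal B ^ k).map (algebraMap B (B ⊗[A] AdicCompletion K A)) :=
    fun k => by rw [Ideal.map_pow, ← hn]
  have h : ∀ k, IsLocalRing.maximalIdeal B ^ k ≤
      (IsLocalRing.maximalIdeal (Localization.AtPrime n') ^ k).comap f := fun k b hb => by
    have hb' : algebraMap B _ b ∈ n' ^ k := by rw [hpow]; exact Ideal.mem_map_of_mem _ hb
    have he : e k (Ideal.Quotient.mk (n' ^ k) (algebraMap B _ b)) = 0 := by
      rw [Ideal.Quotient.eq_zero_iff_mem.mpr hb', map_zero]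
    exact Ideal.mem_comap.mpr (Ideal.Quotient.eq_zero_iff_mem.mp (show Ideal.Quotient.mk _ (f b) = 0 from he))
  refine nonempty_equiv _ _ f h (fun k => ⟨fun x y hxy => ?_, fun z => ?_⟩)
  · obtain ⟨a, rfl⟩ := Ideal.Quotient.mk_surjective x
    obtain ⟨c, rfl⟩ := Ideal.Quotient.mk_surjective y
    rw [Ideal.quotientMap_mk, Ideal.quotientMap_mk] at hxy
    have h2 : e k (Ideal.Quotient.mk (n' ^ k) (algebraMap B _ a)) =
        e k (Ideal.Quotient.mk (n' ^ k) (algebraMap B _ c)) := hxy
    have h3 := (e k).injective h2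
    rw [Ideal.Quotient.mk_eq_mk_iff_sub_mem, ← map_sub, hpow] at h3
    exact Ideal.Quotient.mk_eq_mk_iff_sub_mem _ _ |>.2 (mem_of_algebraMap_mem hm k _ h3)
  · obtain ⟨w, rfl⟩ := (e k).surjective z
    obtain ⟨x, rfl⟩ := Ideal.Quotient.mk_surjective w
    obtain ⟨b, hb⟩ := exists_sub_mem hK hm k x
    rw [← hpow, ← Ideal.Quotient.mk_eq_mk_iff_sub_mem] at hb
    exact ⟨Ideal.Quotient.mk _ b, by rw [hb, Ideal.quotientMap_mk]; rfl⟩

end CplLib
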